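import Cfsg.Agent.LeechSimple.Final
import Cfsg.Agent.Leech.Co2
import Cfsg.Agent.S1578

/-!
# The order of McL (owner: helper7)
-/

set_option autoImplicit false
open Cfsg MulAction Cfsg.Agent.Leech

namespace Cfsg.Agent.LeechSimple

/-- Orbit-stabiliser inside a subgroup. -/
theorem card_inf_stab {G X : Type*} [Group G] [MulAction G X] (H : Subgroup G) (w : X) (S : Set X)
    (hS : ∀ x, x ∈ S ↔ ∃ g ∈ H, g • w = x) :
    S.ncard * Nat.card (H ⊓ stabilizer G w : Subgroup G) = Nat.card H := by
  rw [← orbit_mul_card (G := H) w]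
  have h1 : MulAction.orbit H w = S := by
    ext x
    rw [hS]
    constructor
    · rintro ⟨g, rfl⟩; exact ⟨g, g.2, rfl⟩
    · rintro ⟨g, hg, rfl⟩; exact ⟨⟨g, hg⟩, rfl⟩
  rw [h1]
  congr 1
  have h2 : MulAction.stabilizer H w = (H ⊓ stabilizer G w).subgroupOf H := by
    ext g
    rw [Subgroup.mem_subgroupOf]
    constructor
    · intro h; exact ⟨g.2, h⟩
    · intro h; exact h.2
  rw [h2]
  exact (Nat.card_congr (Subgroup.subgroupOfEquivOfLe inf_le_left).toEquiv).symm

theorem norm_V_add_U : sqNorm ((Spor.leechV + Spor.leechU : leechLattice) : GolayPt → ℤ) = 32 := by decide +kernel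

theorem norm_neg_U : sqNorm ((-Spor.leechU : leechLattice) : GolayPt → ℤ) = 32 := by decide +kernel

theorem norm_V_sub_neg_U : sqNorm ((Spor.leechV - -Spor.leechU : leechLattice) : GolayPt → ℤ) = 32 := by decide +kernel

theorem dot_U_VU : dotInt ((-Spor.leechU : leechLattice) : GolayPt → ℤ) ((Spor.leechV + Spor.leechU : leechLattice) : GolayPt → ℤ) = -8 := by
  decide +kernel

theorem stab_neg (u : leechLattice) : stabilizer Co0 (-u) = stabilizer Co0 u := by
  ext g
  show g • (-u) = -u ↔ g • u = u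
  rw [co0_neg]
  exact neg_inj

/-- |McL| -/
theorem card_mcl : Nat.card mclSub = 898128000 := by
  have h := card_inf_stab (stabilizer Co0 Spor.leechV) (-Spor.leechU)
    {v : leechLattice | sqNorm (v : GolayPt → ℤ) = 32 ∧ sqNorm ((Spor.leechV - v : leechLattice) : GolayPt → ℤ) = 32} (by
      intro x
      constructor
      · intro hx
        obtain ⟨g, h1, h2⟩ := trans_552 Spor.leechV (-Spor.leechU) x norm_leechV ⟨norm_neg_U, norm_V_sub_neg_U⟩ hx
        exact ⟨g, h1, h2⟩
      · rintro ⟨g, hg, rfl⟩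
        have hg' : g • Spor.leechV = Spor.leechV := hg
        refine ⟨by rw [co0_norm, norm_neg_U], ?_⟩
        have h3 := co0_dot g Spor.leechV (-Spor.leechU)
        rw [hg'] at h3
        have h4 := Leech.sqNorm_sub (Spor.leechV : GolayPt → ℤ) ((g • (-Spor.leechU) : leechLattice) : GolayPt → ℤ)
        have h5 := Leech.sqNorm_sub (Spor.leechV : GolayPt → ℤ) ((-Spor.leechU : leechLattice) : GolayPt → ℤ)
        rw [co0_norm, h3, ← h5] at h4
        exact h4.trans norm_V_sub_neg_U)
  have h552 := S1578.result Spor.leechV norm_leechV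
  rw [card_stab_48 _ norm_leechV] at h
  rw [stab_neg] at h
  change _ * Nat.card mclSub = _ at h
  have h6 : {v : leechLattice | sqNorm (v : GolayPt → ℤ) = 32 ∧
      sqNorm ((Spor.leechV - v : leechLattice) : GolayPt → ℤ) = 32}.ncard = 552 := h552
  rw [h6] at h
  omega

theorem simple_mclSub : IsSimpleGroup mclSub := simple_mcl card_mcl

/-- Joint stabilisers are moved by the group. -/
noncomputable def pairEquiv {G X : Type*} [Group G] [MulAction G X] {a b a' b' : X} (g : G)
    (h1 : g • a = a') (h2 : g • b = b') :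
    (stabilizer G a ⊓ stabilizer G b : Subgroup G) ≃* (stabilizer G a' ⊓ stabilizer G b' : Subgroup G) :=
  (MulAut.conj g).subgroupMap _ |>.trans (MulEquiv.subgroupCongr (by
    rw [Subgroup.map_inf _ _ _ (MulAut.conj g).injective]
    congr 1
    · rw [← h1]; exact (stabilizer_smul_eq_stabilizer_map_conj g a).symm
    · rw [← h2]; exact (stabilizer_smul_eq_stabilizer_map_conj g b).symm))

theorem isMcL_pair (v w : leechLattice) (hv : sqNorm (v : GolayPt → ℤ) = 32) (hw : sqNorm (w : GolayPt → ℤ) = 32)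
    (hvw : dotInt (v : GolayPt → ℤ) (w : GolayPt → ℤ) = -8) :
    Nonempty ((stabilizer Co0 v ⊓ stabilizer Co0 w : Subgroup Co0) ≃* mclSub) := by
  obtain ⟨g, h1, h2⟩ := trans_pair_8 v w (-Spor.leechU) (Spor.leechV + Spor.leechU) hv hw norm_neg_U norm_V_add_U
    hvw dot_U_VU
  refine ⟨(pairEquiv g h1 h2).trans (MulEquiv.subgroupCongr ?_)⟩
  rw [stab_neg]
  ext x
  constructor
  · rintro ⟨h3, h4⟩
    have h3' : x • Spor.leechU = Spor.leechU := h3
    have h4' : x • (Spor.leechV + Spor.leechU) = Spor.leechV + Spor.leechU := h4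
    refine ⟨?_, h3⟩
    show x • Spor.leechV = Spor.leechV
    rw [co0_add, h3'] at h4'
    exact add_right_cancel h4'
  · rintro ⟨h3, h4⟩
    have h3' : x • Spor.leechV = Spor.leechV := h3
    have h4' : x • Spor.leechU = Spor.leechU := h4
    refine ⟨h4, ?_⟩
    show x • (Spor.leechV + Spor.leechU) = Spor.leechV + Spor.leechU
    rw [co0_add, h3', h4']

end Cfsg.Agent.LeechSimple
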