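import Cfsg.Agent.LeechSimple.Basic

/-!
# Simplicity of McL, HS, Co2, Co1 (owner: helper7)
-/

set_option autoImplicit false

namespace Cfsg.Agent.LeechSimple

open Cfsg MulAction Cfsg.Agent.Leech Cfsg.Agent.SimpleCrit
open scoped Pointwise

/-! ## The prime 11 -/

/-- The unit 2 modulo 23. -/
def u2 : (ZMod 23)ˣ := ⟨2, 12, by decide, by decide⟩

/-- The unit 5 modulo 23. -/
def u5 : (ZMod 23)ˣ := ⟨5, 14, by decide, by decide⟩

theorem u2_sq : IsSquare u2 := ⟨u5, by decide⟩

/-- `z ↦ 2 z`. -/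
def dblPerm : Equiv.Perm GolayPt := Equiv.optionCongr (Units.mulLeft u2)

theorem dbl_mem : dblPerm ∈ M24 := Golay.mulSquare_mem u2 u2_sq

/-- The element of order 11. -/
def x11 : Co0 := piHom ⟨dblPerm, dbl_mem⟩

theorem orderOf_dbl : orderOf dblPerm = 11 := by
  have hp : Fact (Nat.Prime 11) := ⟨by norm_num⟩
  apply orderOf_eq_prime
  · decide +kernel
  · decide +kernel

theorem orderOf_x11 : orderOf x11 = 11 := by
  unfold x11
  rw [orderOf_injective piHom piHom_injective, Subgroup.orderOf_mk, orderOf_dbl]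

/-- nonzero squares modulo 23 -/
def sqS : Finset (ZMod 23) := {1, 2, 4, 8, 16, 9, 18, 13, 3, 6, 12}

/-- non-squares modulo 23 -/
def sqT : Finset (ZMod 23) := {22, 21, 19, 15, 7, 14, 5, 10, 20, 17, 11}

theorem univ_eq : (Finset.univ : Finset (ZMod 23)) = insert 0 (sqS ∪ sqT) := by decide

theorem sum_blocks (F : ZMod 23 → ℤ) (c d : ℤ) (hS : ∀ z ∈ sqS, F z = c) (hT : ∀ z ∈ sqT, F z = d) :
    ∑ z, F z = F 0 + (11 * c + 11 * d) := by
  rw [univ_eq, Finset.sum_insert (by decide), Finset.sum_union (by decide), Finset.sum_congr rfl hS,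
    Finset.sum_congr rfl hT, Finset.sum_const, Finset.sum_const]
  have h1 : sqS.card = 11 := by decide
  have h2 : sqT.card = 11 := by decide
  rw [h1, h2]
  simp

theorem fix11 {y : leechLattice} (h : x11 • y = y) : (∀ z ∈ sqS, (y : GolayPt → ℤ) (some z) = (y : GolayPt → ℤ) (some 1)) ∧
    (∀ z ∈ sqT, (y : GolayPt → ℤ) (some z) = (y : GolayPt → ℤ) (some 22)) := by
  have h1 : ∀ i : ZMod 23, (y : GolayPt → ℤ) (some (2 * i)) = (y : GolayPt → ℤ) (some i) := by
    intro i
    have h2 : ((x11 • y : leechLattice) : GolayPt → ℤ) (some (2 * i)) = (y : GolayPt → ℤ) (some (2 * i)) := by rw [h]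
    have h3 : ((x11 • y : leechLattice) : GolayPt → ℤ) (some (2 * i)) =
        (y : GolayPt → ℤ) (dblPerm.symm (some (2 * i))) := rfl
    have h4 : dblPerm.symm (some (2 * i)) = some i := by
      rw [Equiv.symm_apply_eq]; rfl
    rw [← h2, h3, h4]
  have e2 : (y : GolayPt → ℤ) (some 2) = (y : GolayPt → ℤ) (some 1) := h1 1
  have e4 : (y : GolayPt → ℤ) (some 4) = (y : GolayPt → ℤ) (some 2) := h1 2
  have e8 : (y : GolayPt → ℤ) (some 8) = (y : GolayPt → ℤ) (some 4) := h1 4
  have e16 : (y : GolayPt → ℤ) (some 16) = (y : GolayPt → ℤ) (some 8) := h1 8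
  have e9 : (y : GolayPt → ℤ) (some 9) = (y : GolayPt → ℤ) (some 16) := h1 16
  have e18 : (y : GolayPt → ℤ) (some 18) = (y : GolayPt → ℤ) (some 9) := h1 9
  have e13 : (y : GolayPt → ℤ) (some 13) = (y : GolayPt → ℤ) (some 18) := h1 18
  have e3 : (y : GolayPt → ℤ) (some 3) = (y : GolayPt → ℤ) (some 13) := h1 13
  have e6 : (y : GolayPt → ℤ) (some 6) = (y : GolayPt → ℤ) (some 3) := h1 3
  have e12 : (y : GolayPt → ℤ) (some 12) = (y : GolayPt → ℤ) (some 6) := h1 6
  have f21 : (y : GolayPt → ℤ) (some 21) = (y : GolayPt → ℤ) (some 22) := h1 22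
  have f19 : (y : GolayPt → ℤ) (some 19) = (y : GolayPt → ℤ) (some 21) := h1 21
  have f15 : (y : GolayPt → ℤ) (some 15) = (y : GolayPt → ℤ) (some 19) := h1 19
  have f7 : (y : GolayPt → ℤ) (some 7) = (y : GolayPt → ℤ) (some 15) := h1 15
  have f14 : (y : GolayPt → ℤ) (some 14) = (y : GolayPt → ℤ) (some 7) := h1 7
  have f5 : (y : GolayPt → ℤ) (some 5) = (y : GolayPt → ℤ) (some 14) := h1 14
  have f10 : (y : GolayPt → ℤ) (some 10) = (y : GolayPt → ℤ) (some 5) := h1 5
  have f20 : (y : GolayPt → ℤ) (some 20) = (y : GolayPt → ℤ) (some 10) := h1 10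
  have f17 : (y : GolayPt → ℤ) (some 17) = (y : GolayPt → ℤ) (some 20) := h1 20
  have f11 : (y : GolayPt → ℤ) (some 11) = (y : GolayPt → ℤ) (some 17) := h1 17
  constructor
  · intro z hz
    simp only [sqS, Finset.mem_insert, Finset.mem_singleton] at hz
    rcases hz with rfl | rfl | rfl | rfl | rfl | rfl | rfl | rfl | rfl | rfl | rfl <;> omega
  · intro z hz
    simp only [sqT, Finset.mem_insert, Finset.mem_singleton] at hz
    rcases hz with rfl | rfl | rfl | rfl | rfl | rfl | rfl | rfl | rfl | rfl | rfl <;> omega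

/-- Norm and inner products of a vector fixed by `x11`. -/
theorem data11 {y : leechLattice} (h : x11 • y = y) :
    sqNorm (y : GolayPt → ℤ) = (y : GolayPt → ℤ) none ^ 2 + ((y : GolayPt → ℤ) (some 0) ^ 2 +
      (11 * (y : GolayPt → ℤ) (some 1) ^ 2 + 11 * (y : GolayPt → ℤ) (some 22) ^ 2)) ∧
    dotInt (Spor.leechV : GolayPt → ℤ) (y : GolayPt → ℤ) = -5 * (y : GolayPt → ℤ) none + (-1 * (y : GolayPt → ℤ) (some 0) +
      (11 * (-1 * (y : GolayPt → ℤ) (some 1)) + 11 * (-1 * (y : GolayPt → ℤ) (some 22)))) ∧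
    dotInt (Spor.leechU : GolayPt → ℤ) (y : GolayPt → ℤ) = 4 * (y : GolayPt → ℤ) none + 4 * (y : GolayPt → ℤ) (some 0) ∧
    dotInt (Spor.leechU' : GolayPt → ℤ) (y : GolayPt → ℤ) = 4 * (y : GolayPt → ℤ) none - 4 * (y : GolayPt → ℤ) (some 0) := by
  obtain ⟨hS, hT⟩ := fix11 h
  refine ⟨?_, ?_, ?_, ?_⟩
  · unfold sqNorm
    rw [Fintype.sum_option, sum_blocks (fun z => (y : GolayPt → ℤ) (some z) ^ 2) ((y : GolayPt → ℤ) (some 1) ^ 2)
      ((y : GolayPt → ℤ) (some 22) ^ 2) (fun z hz => by rw [hS z hz]) (fun z hz => by rw [hT z hz])]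
  · unfold dotInt
    rw [Fintype.sum_option]
    have := sum_blocks (fun z => (Spor.leechV : GolayPt → ℤ) (some z) * (y : GolayPt → ℤ) (some z))
      (-1 * (y : GolayPt → ℤ) (some 1)) (-1 * (y : GolayPt → ℤ) (some 22))
      (fun z hz => by rw [hS z hz]; rfl) (fun z hz => by rw [hT z hz]; rfl)
    rw [this]
    rfl
  · unfold dotInt
    rw [Fintype.sum_option]
    have := sum_blocks (fun z => (Spor.leechU : GolayPt → ℤ) (some z) * (y : GolayPt → ℤ) (some z))
      0 0 (fun z hz => by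
        rw [vecU_apply, if_neg, zero_mul]
        rintro (h | h)
        · simp at h
        · have h3 : z = 0 := Option.some.inj h
          rw [h3] at hz; revert hz; decide) (fun z hz => by
        rw [vecU_apply, if_neg, zero_mul]
        rintro (h | h)
        · simp at h
        · have h3 : z = 0 := Option.some.inj h
          rw [h3] at hz; revert hz; decide)
    rw [this, vecU_apply, vecU_apply, if_pos (Or.inl rfl), if_pos (Or.inr rfl)]
    ring
  · unfold dotInt
    rw [Fintype.sum_option]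
    have := sum_blocks (fun z => (Spor.leechU' : GolayPt → ℤ) (some z) * (y : GolayPt → ℤ) (some z))
      0 0 (fun z hz => by
        rw [vecU'_apply, if_neg (by simp), if_neg, zero_mul]
        intro h
        have h3 : z = 0 := Option.some.inj h
        rw [h3] at hz; revert hz; decide) (fun z hz => by
        rw [vecU'_apply, if_neg (by simp), if_neg, zero_mul]
        intro h
        have h3 : z = 0 := Option.some.inj h
        rw [h3] at hz; revert hz; decide)
    rw [this, vecU'_apply, vecU'_apply, if_pos rfl, if_neg (by simp), if_pos rfl]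
    ring

theorem eq_e8_of {y : leechLattice} (h : x11 • y = y) (h0 : (y : GolayPt → ℤ) none = 8) (h1 : (y : GolayPt → ℤ) (some 0) = 0)
    (h2 : (y : GolayPt → ℤ) (some 1) = 0) (h3 : (y : GolayPt → ℤ) (some 22) = 0) : y = e8 none := by
  obtain ⟨hS, hT⟩ := fix11 h
  apply Subtype.ext
  funext j
  rw [e8_apply]
  cases j with
  | none => rw [if_pos rfl, h0]
  | some z =>
    rw [if_neg (by simp)]
    have hz : z ∈ insert (0 : ZMod 23) (sqS ∪ sqT) := by rw [← univ_eq]; exact Finset.mem_univ z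
    rw [Finset.mem_insert, Finset.mem_union] at hz
    rcases hz with rfl | hz | hz
    · exact h1
    · rw [hS z hz, h2]
    · rw [hT z hz, h3]

/-- The arithmetic for McL. -/
theorem arith_mcl {a b c d : ℤ} (h1 : a ^ 2 + (b ^ 2 + (11 * c ^ 2 + 11 * d ^ 2)) = 64)
    (h2 : -5 * a + (-1 * b + (11 * (-1 * c) + 11 * (-1 * d))) = -40) (h3 : 4 * a + 4 * b = 32) :
    a = 8 ∧ b = 0 ∧ c = 0 ∧ d = 0 := by
  have hb : b = 8 - a := by omega
  subst hb
  obtain ⟨k, hk⟩ : ∃ k : ℤ, a = 8 - 11 * k := ⟨-(a - 8) / 11, by omega⟩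
  have hs : c + d = 4 * k := by omega
  have hk0 : k = 0 := by
    have h4 : (8 - 11 * k) ^ 2 + (11 * k) ^ 2 ≤ 64 := by
      have : 8 - a = 11 * k := by omega
      rw [hk] at h1
      nlinarith [sq_nonneg c, sq_nonneg d]
    have h5 : k * (242 * k - 176) ≤ 0 := by nlinarith
    by_contra hne
    rcases lt_or_gt_of_ne hne with h | h
    · nlinarith
    · nlinarith
  rw [hk0] at hk hs
  have ha : a = 8 := by omega
  have hd : d = -c := by omega
  subst ha
  subst hd
  have hc : c ^ 2 = 0 := by nlinarith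
  have hc0 : c = 0 := by
    rcases eq_or_ne c 0 with h | h
    · exact h
    · have := pow_ne_zero 2 h; contradiction
  subst hc0
  simp

/-- The arithmetic for HS. -/
theorem arith_hs {a b c d : ℤ} (h1 : a ^ 2 + (b ^ 2 + (11 * c ^ 2 + 11 * d ^ 2)) = 64)
    (h2 : -5 * a + (-1 * b + (11 * (-1 * c) + 11 * (-1 * d))) = -40) (h3 : 4 * a - 4 * b = 32) :
    a = 8 ∧ b = 0 ∧ c = 0 ∧ d = 0 := by
  have hb : b = a - 8 := by omega
  subst hb
  obtain ⟨k, hk⟩ : ∃ k : ℤ, a = 8 - 11 * k := ⟨-(a - 8) / 11, by omega⟩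
  have hs : c + d = 6 * k := by omega
  have hk0 : k = 0 := by
    have h4 : (8 - 11 * k) ^ 2 + (11 * k) ^ 2 ≤ 64 := by
      rw [hk] at h1
      nlinarith [sq_nonneg c, sq_nonneg d]
    have h5 : k * (242 * k - 176) ≤ 0 := by nlinarith
    by_contra hne
    rcases lt_or_gt_of_ne hne with h | h
    · nlinarith
    · nlinarith
  rw [hk0] at hk hs
  have ha : a = 8 := by omega
  have hd : d = -c := by omega
  subst ha
  subst hd
  have hc : c ^ 2 = 0 := by nlinarith
  have hc0 : c = 0 := by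
    rcases eq_or_ne c 0 with h | h
    · exact h
    · have := pow_ne_zero 2 h; contradiction
  subst hc0
  simp

end Cfsg.Agent.LeechSimple
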