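import Cfsg.Agent.LeechSimple.Eleven

/-!
# Simplicity of McL, HS, Co2, Co1 from the orders (owner: helper7)
-/

set_option autoImplicit false

namespace Cfsg.Agent.LeechSimple

open Cfsg MulAction Cfsg.Agent.Leech Cfsg.Agent.SimpleCrit
open scoped Pointwise

/-- McL as a subgroup of `Co0`. -/
def mclSub : Subgroup Co0 := stabilizer Co0 Spor.leechV ⊓ stabilizer Co0 Spor.leechU

/-- HS as a subgroup of `Co0`. -/
def hsSub : Subgroup Co0 := stabilizer Co0 Spor.leechV ⊓ stabilizer Co0 Spor.leechU'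

theorem x11_fix_e8 : x11 • e8 none = e8 none := piHom_fix_e8 rfl

theorem dot_U_e8 : dotInt (Spor.leechU : GolayPt → ℤ) (e8 none : GolayPt → ℤ) = 32 := by
  have h : ((e8 none : leechLattice) : GolayPt → ℤ) = Pi.single none 8 := rfl
  rw [h, dot_single, vecU_apply, if_pos (Or.inl rfl)]
  norm_num

theorem dot_U'_e8 : dotInt (Spor.leechU' : GolayPt → ℤ) (e8 none : GolayPt → ℤ) = 32 := by
  have h : ((e8 none : leechLattice) : GolayPt → ℤ) = Pi.single none 8 := rfl
  rw [h, dot_single, vecU'_apply, if_pos rfl]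
  norm_num

theorem two_U : Spor.leechU + Spor.leechU - e8 none = e8 (some 0) := by
  apply Subtype.ext
  funext j
  rw [AddSubgroup.coe_sub, AddSubgroup.coe_add, Pi.sub_apply, Pi.add_apply, vecU_apply, e8_apply, e8_apply]
  cases j with
  | none => simp
  | some i =>
    by_cases h : i = 0
    · subst h; simp
    · have h' : ¬ (some i : GolayPt) = some 0 := fun hh => h (Option.some.inj hh)
      rw [if_neg (fun hh => hh.elim (by simp) h'), if_neg (by simp), if_neg h']; norm_num

theorem two_U' : e8 none - (Spor.leechU' + Spor.leechU') = e8 (some 0) := by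
  apply Subtype.ext
  funext j
  rw [AddSubgroup.coe_sub, AddSubgroup.coe_add, Pi.sub_apply, Pi.add_apply, vecU'_apply, e8_apply, e8_apply]
  cases j with
  | none => simp
  | some i =>
    by_cases h : i = 0
    · subst h; simp
    · have h' : ¬ (some i : GolayPt) = some 0 := fun hh => h (Option.some.inj hh)
      rw [if_neg (by simp), if_neg h', if_neg (by simp), if_neg h']; norm_num

theorem piHom_fix_U {σ : M24} (h : (σ : Equiv.Perm GolayPt) none = none) (h' : (σ : Equiv.Perm GolayPt) (some 0) = some 0) :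
    piHom σ • Spor.leechU = Spor.leechU := by
  apply Subtype.ext
  funext j
  rw [piHom_apply, vecU_apply, vecU_apply]
  have hj : (σ : Equiv.Perm GolayPt).symm j = none ↔ j = none := by
    rw [Equiv.symm_apply_eq, h]
  have hj' : (σ : Equiv.Perm GolayPt).symm j = some 0 ↔ j = some 0 := by
    rw [Equiv.symm_apply_eq, h']
  simp only [hj, hj']

theorem piHom_fix_U' {σ : M24} (h : (σ : Equiv.Perm GolayPt) none = none) (h' : (σ : Equiv.Perm GolayPt) (some 0) = some 0) :
    piHom σ • Spor.leechU' = Spor.leechU' := by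
  apply Subtype.ext
  funext j
  rw [piHom_apply, vecU'_apply, vecU'_apply]
  have hj : (σ : Equiv.Perm GolayPt).symm j = none ↔ j = none := by
    rw [Equiv.symm_apply_eq, h]
  have hj' : (σ : Equiv.Perm GolayPt).symm j = some 0 ↔ j = some 0 := by
    rw [Equiv.symm_apply_eq, h']
  simp only [hj, hj']

theorem mem_M22'_of {g : Co0} (h1 : g • e8 none = e8 none) (h2 : g • Spor.leechV = Spor.leechV)
    (h3 : g • e8 (some 0) = e8 (some 0)) : g ∈ M22' := by
  obtain ⟨σ, hσ, rfl⟩ := perm_of_fix h1 h2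
  refine ⟨σ, ⟨hσ, ?_⟩, rfl⟩
  change (σ : Equiv.Perm GolayPt) (some 0) = some 0
  have h4 : ((piHom σ • e8 (some 0) : leechLattice) : GolayPt → ℤ) ((σ : Equiv.Perm GolayPt) (some 0)) =
      (e8 (some 0) : GolayPt → ℤ) ((σ : Equiv.Perm GolayPt) (some 0)) := by rw [h3]
  rw [piHom_apply, Equiv.symm_apply_apply, e8_apply, e8_apply, if_pos rfl] at h4
  by_contra hne
  rw [if_neg hne] at h4
  norm_num at h4

theorem x11_mem : x11 ∈ M22' := ⟨⟨dblPerm, dbl_mem⟩, ⟨rfl, rfl⟩, rfl⟩

theorem inv_smul_of_fix {g : Co0} {y : leechLattice} (h : g • y = y) : g⁻¹ • y = y := by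
  rw [inv_smul_eq_iff]; exact h.symm

theorem normalizer_mcl {g : Co0} (hV : g • Spor.leechV = Spor.leechV) (hU : g • Spor.leechU = Spor.leechU)
    (h : g * x11 * g⁻¹ ∈ Subgroup.zpowers x11) : g ∈ M22' := by
  have h1 := inv_fix h x11_fix_e8
  obtain ⟨d1, d2, d3, d4⟩ := data11 h1
  have h2 : sqNorm ((g⁻¹ • e8 none : leechLattice) : GolayPt → ℤ) = 64 := by rw [co0_norm, norm_e8]
  have h3 : dotInt (Spor.leechV : GolayPt → ℤ) ((g⁻¹ • e8 none : leechLattice) : GolayPt → ℤ) = -40 := by
    have := co0_dot g⁻¹ Spor.leechV (e8 none)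
    rw [inv_smul_of_fix hV, dot_V_e8] at this
    exact this
  have h4 : dotInt (Spor.leechU : GolayPt → ℤ) ((g⁻¹ • e8 none : leechLattice) : GolayPt → ℤ) = 32 := by
    have := co0_dot g⁻¹ Spor.leechU (e8 none)
    rw [inv_smul_of_fix hU, dot_U_e8] at this
    exact this
  rw [h2] at d1; rw [h3] at d2; rw [h4] at d3
  obtain ⟨ha, hb, hc, hd⟩ := arith_mcl d1.symm d2.symm d3.symm
  have h5 := eq_e8_of h1 ha hb hc hd
  have h6 : g • e8 none = e8 none := by rw [inv_smul_eq_iff] at h5; exact h5.symm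
  apply mem_M22'_of h6 hV
  rw [← two_U, co0_sub, co0_add, hU, h6]

theorem normalizer_hs {g : Co0} (hV : g • Spor.leechV = Spor.leechV) (hU : g • Spor.leechU' = Spor.leechU')
    (h : g * x11 * g⁻¹ ∈ Subgroup.zpowers x11) : g ∈ M22' := by
  have h1 := inv_fix h x11_fix_e8
  obtain ⟨d1, d2, d3, d4⟩ := data11 h1
  have h2 : sqNorm ((g⁻¹ • e8 none : leechLattice) : GolayPt → ℤ) = 64 := by rw [co0_norm, norm_e8]
  have h3 : dotInt (Spor.leechV : GolayPt → ℤ) ((g⁻¹ • e8 none : leechLattice) : GolayPt → ℤ) = -40 := by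
    have := co0_dot g⁻¹ Spor.leechV (e8 none)
    rw [inv_smul_of_fix hV, dot_V_e8] at this
    exact this
  have h4 : dotInt (Spor.leechU' : GolayPt → ℤ) ((g⁻¹ • e8 none : leechLattice) : GolayPt → ℤ) = 32 := by
    have := co0_dot g⁻¹ Spor.leechU' (e8 none)
    rw [inv_smul_of_fix hU, dot_U'_e8] at this
    exact this
  rw [h2] at d1; rw [h3] at d2; rw [h4] at d4
  obtain ⟨ha, hb, hc, hd⟩ := arith_hs d1.symm d2.symm d4.symm
  have h5 := eq_e8_of h1 ha hb hc hd
  have h6 : g • e8 none = e8 none := by rw [inv_smul_eq_iff] at h5; exact h5.symm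
  apply mem_M22'_of h6 hV
  rw [← two_U', co0_sub, co0_add, hU, h6]

theorem M22'_le_mcl : M22' ≤ mclSub := by
  rintro _ ⟨σ, ⟨h1, h2⟩, rfl⟩
  exact ⟨piHom_fix_V h1, piHom_fix_U h1 h2⟩

theorem M22'_le_hs : M22' ≤ hsSub := by
  rintro _ ⟨σ, ⟨h1, h2⟩, rfl⟩
  exact ⟨piHom_fix_V h1, piHom_fix_U' h1 h2⟩

/-- McL is simple. -/
theorem simple_mcl (hcard : Nat.card mclSub = 898128000) : IsSimpleGroup mclSub := by
  have hp : Fact (Nat.Prime 11) := ⟨by norm_num⟩
  apply simple_sub_of_local mclSub M22' M22'_le_mcl simple_M22' x11_mem orderOf_x11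
  · rw [hcard]; norm_num
  · intro g hg h
    exact normalizer_mcl hg.1 hg.2 h
  · intro N hN hb hpN hdvd hS
    rw [card_M22', hcard] at hdvd
    have hd0 : Nat.card N ≠ 0 := Nat.card_pos.ne'
    have h1 : Nat.card N ∣ 3 ^ 4 * 5 ^ 2 := by
      have : Nat.card N * 443520 ∣ 3 ^ 4 * 5 ^ 2 * 443520 := by
        have h0 : (3 ^ 4 * 5 ^ 2 * 443520 : ℕ) = 898128000 := by norm_num
        rw [h0]; exact hdvd
      exact Nat.dvd_of_mul_dvd_mul_right (by norm_num) this
    have h3 := hS.strip hd0 Nat.prime_three h1 (by norm_num) (by decide)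
    have h4 := hS.strip hd0 Nat.prime_five (k := 2) (m := 1) (by simpa using h3) (by norm_num) (by decide)
    exact Subgroup.card_eq_one.1 (Nat.dvd_one.1 h4)

/-- HS is simple. -/
theorem simple_hs (hcard : Nat.card hsSub = 44352000) : IsSimpleGroup hsSub := by
  have hp : Fact (Nat.Prime 11) := ⟨by norm_num⟩
  apply simple_sub_of_local hsSub M22' M22'_le_hs simple_M22' x11_mem orderOf_x11
  · rw [hcard]; norm_num
  · intro g hg h
    exact normalizer_hs hg.1 hg.2 h
  · intro N hN hb hpN hdvd hS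
    rw [card_M22', hcard] at hdvd
    have hd0 : Nat.card N ≠ 0 := Nat.card_pos.ne'
    have h1 : Nat.card N ∣ 2 ^ 2 * 5 ^ 2 := by
      have : Nat.card N * 443520 ∣ 2 ^ 2 * 5 ^ 2 * 443520 := by
        have h0 : (2 ^ 2 * 5 ^ 2 * 443520 : ℕ) = 44352000 := by norm_num
        rw [h0]; exact hdvd
      exact Nat.dvd_of_mul_dvd_mul_right (by norm_num) this
    have h3 := hS.strip hd0 Nat.prime_two h1 (by norm_num) (by decide)
    have h4 := hS.strip hd0 Nat.prime_five (k := 2) (m := 1) (by simpa using h3) (by norm_num) (by decide)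
    exact Subgroup.card_eq_one.1 (Nat.dvd_one.1 h4)

/-! ## Co2 -/

/-- The vector `(3, -1^23)`. -/
def w32 : leechLattice := Spor.leechV + e8 none

theorem norm_w32 : sqNorm (w32 : GolayPt → ℤ) = 32 := by decide +kernel

theorem dot_w32_e8 : dotInt (w32 : GolayPt → ℤ) (e8 none : GolayPt → ℤ) = 24 := by
  have h : ((e8 none : leechLattice) : GolayPt → ℤ) = Pi.single none 8 := rfl
  rw [h, dot_single]
  have h2 : (w32 : GolayPt → ℤ) none = 3 := rfl
  rw [h2]
  norm_num

theorem dot_neg_right (x : GolayPt → ℤ) (y : leechLattice) :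
    dotInt x ((-y : leechLattice) : GolayPt → ℤ) = - dotInt x (y : GolayPt → ℤ) := by
  unfold dotInt
  rw [← Finset.sum_neg_distrib]
  apply Finset.sum_congr rfl
  intro i _
  rw [AddSubgroup.coe_neg, Pi.neg_apply, mul_neg]

/-- Only the primes: a divisor of `2^k` with the local condition at 23. -/
theorem two_power_case {d k : ℕ} (hk : k ≤ 21) (h : d ∣ 2 ^ k) (hS : SylOne 23 d) : d = 1 ∨ d = 2 ^ 11 := by
  obtain ⟨j, hj, rfl⟩ := (Nat.dvd_prime_pow Nat.prime_two).1 h
  have h1 := hS 2 Nat.prime_two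
  rw [Nat.prime_two.factorization_pow, Finsupp.single_eq_same] at h1
  have hj' : j ≤ 21 := hj.trans hk
  interval_cases j <;> first | (left; rfl) | (right; rfl) | (exfalso; revert h1; decide)

/-- Co2 is simple, from the order of HS. -/
theorem simple_co2 (hhs : Nat.card hsSub = 44352000) : IsSimpleGroup (stabilizer Co0 w32) := by
  have hp : Fact (Nat.Prime 23) := ⟨by norm_num⟩
  have hcard : Nat.card (stabilizer Co0 w32) = 42305421312000 := card_stab_32 _ norm_w32
  apply simple_sub_of_local (stabilizer Co0 w32) M23' _ simple_M23' x23_mem orderOf_x23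
  · rw [hcard]; norm_num
  · intro g hg h
    have hw : g • w32 = w32 := hg
    have he : g • e8 none = e8 none := by
      rcases normalizer23 h with h1 | h1
      · exact h1
      · exfalso
        have h2 := co0_dot g w32 (e8 none)
        rw [hw, h1, dot_w32_e8, dot_neg_right, dot_w32_e8] at h2
        norm_num at h2
    have hV : g • Spor.leechV = Spor.leechV := by
      have : Spor.leechV = w32 - e8 none := by unfold w32; rw [add_sub_cancel_right]
      rw [this, co0_sub, hw, he]
    obtain ⟨σ, hσ, rfl⟩ := perm_of_fix he hV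
    exact ⟨σ, hσ, rfl⟩
  · intro N hN hb hpN hdvd hS
    rw [card_M23', hcard] at hdvd
    have hd0 : Nat.card N ≠ 0 := Nat.card_pos.ne'
    have h1 : Nat.card N ∣ 3 ^ 4 * (5 ^ 2 * 2 ^ 11) := by
      have : Nat.card N * 10200960 ∣ 3 ^ 4 * (5 ^ 2 * 2 ^ 11) * 10200960 := by
        have h0 : (3 ^ 4 * (5 ^ 2 * 2 ^ 11) * 10200960 : ℕ) = 42305421312000 := by norm_num
        rw [h0]; exact hdvd
      exact Nat.dvd_of_mul_dvd_mul_right (by norm_num) this
    have h2 := hS.strip hd0 Nat.prime_three h1 (by norm_num) (by decide)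
    have h3 := hS.strip hd0 Nat.prime_five h2 (by norm_num) (by decide)
    rcases two_power_case (by norm_num) h3 hS with h4 | h4
    · exact Subgroup.card_eq_one.1 h4
    · exfalso
      -- a conjugate of HS in the stabiliser
      obtain ⟨g, hg⟩ := trans_32 Spor.leechU' w32 (by decide +kernel) norm_w32
      let H : Subgroup Co0 := hsSub.map (MulAut.conj g).toMonoidHom
      have hHle : H ≤ stabilizer Co0 w32 := by
        rintro _ ⟨k, hk, rfl⟩
        change (g * k * g⁻¹) • w32 = w32
        have hk2 : k • Spor.leechU' = Spor.leechU' := hk.2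
        rw [← hg, mul_smul, inv_smul_smul, mul_smul, hk2]
      have eH : hsSub ≃* H := hsSub.equivMapOfInjective _ (MulAut.conj g).injective
      have hHs : IsSimpleGroup H := simple_congr eH (simple_hs hhs)
      have hHc : Nat.card H = 44352000 := by rw [← hhs]; exact (Nat.card_congr eH.toEquiv).symm
      let H' : Subgroup (stabilizer Co0 w32) := H.subgroupOf (stabilizer Co0 w32)
      have eH' : H' ≃* H := Subgroup.subgroupOfEquivOfLe hHle
      have hH's : IsSimpleGroup H' := simple_congr eH'.symm hHs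
      have hH'c : Nat.card H' = 44352000 := by rw [← hHc]; exact Nat.card_congr eH'.toEquiv
      rcases simple_inf_normal N H' hH's with h5 | h5
      · have h6 := card_mul_dvd_of_inf_eq_bot N H' h5
        rw [h4, hH'c, hcard] at h6
        revert h6; norm_num
      · have h6 := Subgroup.card_dvd_of_le h5
        rw [h4, hH'c] at h6
        revert h6; norm_num
  · rintro _ ⟨σ, hσ, rfl⟩
    change piHom σ • w32 = w32
    unfold w32
    rw [co0_add, piHom_fix_V hσ, piHom_fix_e8 hσ]

/-! ## Co1 -/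

/-- The vectors of norm 48 fixed by `x23` with inner product `-40` with `8 e_∞`. -/
theorem fix23_48 {y : leechLattice} (h : x23 • y = y) (hn : sqNorm (y : GolayPt → ℤ) = 48)
    (hd : dotInt (y : GolayPt → ℤ) (e8 none : GolayPt → ℤ) = -40) : y = Spor.leechV := by
  have hn' := hn
  rw [norm23 h] at hn
  have he : ((e8 none : leechLattice) : GolayPt → ℤ) = Pi.single none 8 := rfl
  rw [he, dot_single] at hd
  have ha : (y : GolayPt → ℤ) none = -5 := by omega
  rw [ha] at hn
  have hb : ((y : GolayPt → ℤ) (some 0) - 1) * ((y : GolayPt → ℤ) (some 0) + 1) = 0 := by linarith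
  rcases mul_eq_zero.1 hb with h1 | h1
  · exfalso
    have hb1 : (y : GolayPt → ℤ) (some 0) = 1 := by omega
    have h8 := eight_dvd_dotInt y.2 Spor.leechV.2
    have h9 : dotInt (y : GolayPt → ℤ) (Spor.leechV : GolayPt → ℤ) = 2 := by
      unfold dotInt
      rw [Fintype.sum_option, Finset.sum_congr rfl (fun i _ => by rw [fix23 h i, hb1]), ha]
      decide +kernel
    rw [h9] at h8
    revert h8; decide
  · have hb1 : (y : GolayPt → ℤ) (some 0) = -1 := by omega
    apply Subtype.ext
    funext j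
    rw [vecV_apply]
    cases j with
    | none => rw [if_pos rfl, ha]
    | some i => rw [if_neg (by simp), fix23 h i, hb1]

/-- The quotient map. -/
abbrev qC : Co0 →* Co0 ⧸ Subgroup.center Co0 := QuotientGroup.mk' (Subgroup.center Co0)

theorem qC_inj {H : Subgroup Co0} (h : negElt ∉ H) : Function.Injective (qC.comp H.subtype) := by
  rw [injective_iff_map_eq_one]
  intro k hk
  have h1 : (k : Co0) ∈ Subgroup.center Co0 := (QuotientGroup.eq_one_iff (k : Co0)).1 hk
  rcases center_cases h1 with h2 | h2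
  · exact Subtype.ext h2
  · exact absurd (h2 ▸ k.2) h

/-- the image of a subgroup without `-1` -/
noncomputable def imEquiv {H : Subgroup Co0} (h : negElt ∉ H) : H ≃* H.map qC := by
  have e1 : H ≃* (qC.comp H.subtype).range := MonoidHom.ofInjective (qC_inj h)
  have e2 : (qC.comp H.subtype).range = H.map qC := by
    rw [MonoidHom.range_comp, Subgroup.range_subtype]
  exact e1.trans (MulEquiv.subgroupCongr e2)

theorem neg_ne {y : leechLattice} (hy : y ≠ 0) : negElt • y ≠ y := by
  rw [negElt_smul]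
  intro h
  apply hy
  have h1 : y + y = 0 := by
    nth_rewrite 1 [← h]
    exact neg_add_cancel y
  apply Subtype.ext
  funext i
  have h2 := congrArg (fun z : leechLattice => (z : GolayPt → ℤ) i) h1
  have h3 : (y : GolayPt → ℤ) i + (y : GolayPt → ℤ) i = 0 := h2
  change (y : GolayPt → ℤ) i = 0
  omega

theorem V_ne_zero : Spor.leechV ≠ 0 := by
  intro h
  have h1 : (Spor.leechV : GolayPt → ℤ) none = 0 := by rw [h]; rfl
  rw [vecV_apply, if_pos rfl] at h1
  norm_num at h1

theorem w32_ne_zero : w32 ≠ 0 := by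
  intro h
  have h1 : (w32 : GolayPt → ℤ) none = 0 := by rw [h]; rfl
  have h2 : (w32 : GolayPt → ℤ) none = 3 := rfl
  rw [h2] at h1
  norm_num at h1

theorem neg_notMem_M23' : negElt ∉ M23' := by
  rintro ⟨σ, hσ, h⟩
  apply neg_ne V_ne_zero
  rw [← h]
  exact piHom_fix_V hσ

theorem neg_notMem_co2 : negElt ∉ stabilizer Co0 w32 := fun h => neg_ne w32_ne_zero h

theorem neg_pow_odd {z : Co0} (hz : z ∈ Subgroup.center Co0) (h : z ^ 23 = 1) : z = 1 := by
  have h1 : orderOf z ∣ 23 := orderOf_dvd_of_pow_eq_one h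
  have h2 : orderOf (⟨z, hz⟩ : Subgroup.center Co0) ∣ 2 := by
    have := orderOf_dvd_natCard (⟨z, hz⟩ : Subgroup.center Co0)
    rwa [card_center_Co0] at this
  rw [Subgroup.orderOf_mk] at h2
  have h3 : orderOf z ∣ 1 := by
    have := Nat.dvd_gcd h1 h2
    exact this
  exact orderOf_eq_one_iff.1 (Nat.dvd_one.1 h3)

theorem lift_normalizer {g : Co0} (h : qC g * qC x23 * (qC g)⁻¹ ∈ Subgroup.zpowers (qC x23)) :
    g * x23 * g⁻¹ ∈ Subgroup.zpowers x23 := by
  obtain ⟨k, hk⟩ := h
  have hk' : qC (x23 ^ k) = qC (g * x23 * g⁻¹) := by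
    rw [map_zpow, map_mul, map_mul, map_inv]; exact hk
  have h1 : (x23 ^ k)⁻¹ * (g * x23 * g⁻¹) ∈ Subgroup.center Co0 := QuotientGroup.eq.1 hk'
  set z := (x23 ^ k)⁻¹ * (g * x23 * g⁻¹) with hz
  have h2 : g * x23 * g⁻¹ = x23 ^ k * z := by rw [hz]; group
  have h3 : (g * x23 * g⁻¹) ^ 23 = 1 := by
    have h0 : x23 ^ 23 = 1 := by rw [← orderOf_x23]; exact pow_orderOf_eq_one x23
    rw [conj_pow, h0, mul_one, mul_inv_cancel]
  have h4 : z ^ 23 = 1 := by
    have hcomm : Commute (x23 ^ k) z := (Subgroup.mem_center_iff.1 h1 (x23 ^ k))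
    rw [h2, hcomm.mul_pow] at h3
    have h5 : (x23 ^ k) ^ 23 = 1 := by
      rw [← zpow_natCast, ← zpow_mul, mul_comm, zpow_mul]
      have : x23 ^ ((23 : ℕ) : ℤ) = 1 := by rw [zpow_natCast, ← orderOf_x23]; exact pow_orderOf_eq_one x23
      rw [this, one_zpow]
    rwa [h5, one_mul] at h3
  have h5 := neg_pow_odd h1 h4
  rw [h5, mul_one] at h2
  exact ⟨k, h2.symm⟩

theorem mem_M23'_or {g : Co0} (h : g * x23 * g⁻¹ ∈ Subgroup.zpowers x23) : g ∈ M23' ∨ negElt * g ∈ M23' := by
  have key : ∀ g : Co0, g * x23 * g⁻¹ ∈ Subgroup.zpowers x23 → g • e8 none = e8 none → g ∈ M23' := by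
    intro g h he
    have h1 := inv_fix h x23_fix_V
    have h2 : sqNorm ((g⁻¹ • Spor.leechV : leechLattice) : GolayPt → ℤ) = 48 := by
      rw [co0_norm]; decide +kernel
    have h3 : dotInt ((g⁻¹ • Spor.leechV : leechLattice) : GolayPt → ℤ) (e8 none : GolayPt → ℤ) = -40 := by
      have := co0_dot g⁻¹ Spor.leechV (e8 none)
      rw [inv_smul_of_fix he, dot_V_e8] at this
      exact this
    have h4 := fix23_48 h1 h2 h3
    have hV : g • Spor.leechV = Spor.leechV := by rw [inv_smul_eq_iff] at h4; exact h4.symm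
    obtain ⟨σ, hσ, rfl⟩ := perm_of_fix he hV
    exact ⟨σ, hσ, rfl⟩
  rcases normalizer23 h with h1 | h1
  · exact Or.inl (key g h h1)
  · right
    apply key
    · have hc := neg_mem_center
      have : negElt * g * x23 * (negElt * g)⁻¹ = g * x23 * g⁻¹ := by
        have h2 : negElt * (g * x23 * g⁻¹) = (g * x23 * g⁻¹) * negElt := (Subgroup.mem_center_iff.1 hc _).symm
        calc negElt * g * x23 * (negElt * g)⁻¹ = (negElt * (g * x23 * g⁻¹)) * negElt⁻¹ := by group
          _ = g * x23 * g⁻¹ := by rw [h2, mul_inv_cancel_right]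
      rw [this]; exact h
    · rw [mul_smul, h1, negElt_smul, neg_neg]

theorem card_co1 : Nat.card (Co0 ⧸ Subgroup.center Co0) = 4157776806543360000 := by
  have h := (Subgroup.center Co0).card_mul_index
  rw [Subgroup.index_eq_card, card_center_Co0, card_Co0] at h
  omega

/-- Co1 is simple, from the order of HS. -/
theorem simple_co1 (hhs : Nat.card hsSub = 44352000) : IsSimpleGroup (Co0 ⧸ Subgroup.center Co0) := by
  have hp : Fact (Nat.Prime 23) := ⟨by norm_num⟩
  have eK := imEquiv neg_notMem_M23'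
  have hKs : IsSimpleGroup (M23'.map qC) := simple_congr eK simple_M23'
  have hKc : Nat.card (M23'.map qC) = 10200960 := by rw [← card_M23']; exact (Nat.card_congr eK.toEquiv).symm
  have hx : orderOf (qC x23) = 23 := by
    have h1 : orderOf (⟨x23, x23_mem⟩ : M23') = 23 := by rw [Subgroup.orderOf_mk, orderOf_x23]
    rw [← orderOf_injective _ (qC_inj neg_notMem_M23')] at h1
    exact h1
  apply simple_of_local (M23'.map qC) hKs (x := qC x23) (p := 23) ⟨x23, x23_mem, rfl⟩ hx
  · rw [card_co1]; norm_num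
  · intro g
    refine QuotientGroup.induction_on g (fun g => ?_)
    intro h
    rcases mem_M23'_or (lift_normalizer h) with h1 | h1
    · exact ⟨g, h1, rfl⟩
    · refine ⟨negElt * g, h1, ?_⟩
      rw [map_mul]
      have : qC negElt = 1 := (QuotientGroup.eq_one_iff negElt).2 neg_mem_center
      rw [this, one_mul]; rfl
  · intro N hN hb hpN hdvd hS
    rw [hKc, card_co1] at hdvd
    have hd0 : Nat.card N ≠ 0 := Nat.card_pos.ne'
    have h1 : Nat.card N ∣ 3 ^ 7 * (5 ^ 3 * (7 ^ 1 * (13 ^ 1 * 2 ^ 14))) := by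
      have : Nat.card N * 10200960 ∣ 3 ^ 7 * (5 ^ 3 * (7 ^ 1 * (13 ^ 1 * 2 ^ 14))) * 10200960 := by
        have h0 : (3 ^ 7 * (5 ^ 3 * (7 ^ 1 * (13 ^ 1 * 2 ^ 14))) * 10200960 : ℕ) = 4157776806543360000 := by norm_num
        rw [h0]; exact hdvd
      exact Nat.dvd_of_mul_dvd_mul_right (by norm_num) this
    have h2 := hS.strip hd0 Nat.prime_three h1 (by norm_num) (by decide)
    have h3 := hS.strip hd0 Nat.prime_five h2 (by norm_num) (by decide)
    have h4 := hS.strip hd0 (by norm_num : Nat.Prime 7) h3 (by norm_num) (by decide)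
    have h5 := hS.strip hd0 (by norm_num : Nat.Prime 13) h4 (by norm_num) (by decide)
    rcases two_power_case (by norm_num) h5 hS with h6 | h6
    · exact Subgroup.card_eq_one.1 h6
    · exfalso
      have e2 := imEquiv neg_notMem_co2
      have hs2 : IsSimpleGroup ((stabilizer Co0 w32).map qC) := simple_congr e2 (simple_co2 hhs)
      have hc2 : Nat.card ((stabilizer Co0 w32).map qC) = 42305421312000 := by
        rw [← card_stab_32 _ norm_w32]; exact (Nat.card_congr e2.toEquiv).symm
      rcases simple_inf_normal N _ hs2 with h7 | h7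
      · have h8 := card_mul_dvd_of_inf_eq_bot N _ h7
        rw [h6, hc2, card_co1] at h8
        revert h8; norm_num
      · have h8 := Subgroup.card_dvd_of_le h7
        rw [h6, hc2] at h8
        revert h8; norm_num

end Cfsg.Agent.LeechSimple
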